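import Cfsg.Agent.H13.CoTwo.Odd.Defs

/-! Kernel checks of the odd certificates: inverted generators at five. -/

set_option autoImplicit false
set_option Elab.async false
set_option maxRecDepth 100000

namespace Cfsg.Agent.H13.CoTwo

open Cfsg Cfsg.Agent.Golay Cfsg.Agent.H92.LeechOrbit

theorem five_t : relOK [fiveCert.t, fiveCert.t] [] = true := by decide +kernel

theorem five_A : (fiveCert.A.all fun a => relOK [a, fiveCert.t, a] [fiveCert.t]) = true := by decide +kernel

theorem five_pair_10 : pairAt fiveCert.A fiveCert.pA 1 0 = true := by decide +kernel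


end Cfsg.Agent.H13.CoTwo
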