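import Cfsg.Agent.H13.CoTwo.Odd.Defs

/-! Kernel checks of the odd certificates: conjugates at five. -/

set_option autoImplicit false
set_option Elab.async false
set_option maxRecDepth 100000

namespace Cfsg.Agent.H13.CoTwo

open Cfsg Cfsg.Agent.Golay Cfsg.Agent.H92.LeechOrbit

theorem five_S : (fiveCert.S.all fun s => relOK [fiveCert.t, s] [s, fiveCert.t] && relOK (List.replicate fiveCert.l s) []) = true := by decide +kernel

theorem five_pS : InvCert.pairsOK fiveCert.S fiveCert.pS = true := by decide +kernel

theorem five_norm_00 : normAt fiveCert 0 0 = true := by decide +kernel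

theorem five_norm_01 : normAt fiveCert 0 1 = true := by decide +kernel


end Cfsg.Agent.H13.CoTwo
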