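import Cfsg.Agent.H13.CoTwo.Odd.Defs

/-! Kernel checks of the odd certificates: orbit at three. -/

set_option autoImplicit false
set_option Elab.async false
set_option maxRecDepth 100000

namespace Cfsg.Agent.H13.CoTwo

open Cfsg Cfsg.Agent.Golay Cfsg.Agent.H92.LeechOrbit

theorem three_rest : levelRest (threeCert.A ++ threeCert.S) (threeLevels.getD 0 ⟨[], [], []⟩) = true := by decide +kernel

theorem three_closed_take : closedOK ((threeCert.A ++ threeCert.S).take 3) (threeLevels.getD 0 ⟨[], [], []⟩) = true := by decide +kernel


end Cfsg.Agent.H13.CoTwo
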