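import Cfsg.Agent.H13.CoTwo.Odd.Defs

/-! Kernel checks of the odd certificates: conjugates at three. -/

set_option autoImplicit false
set_option Elab.async false
set_option maxRecDepth 100000

namespace Cfsg.Agent.H13.CoTwo

open Cfsg Cfsg.Agent.Golay Cfsg.Agent.H92.LeechOrbit

theorem three_norm_00 : normAt threeCert 0 0 = true := by decide +kernel

theorem three_norm_01 : normAt threeCert 0 1 = true := by decide +kernel


end Cfsg.Agent.H13.CoTwo
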