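import Cfsg.Agent.H13.CoTwo.Data

/-!
Pieces of the checks of the odd certificates.
-/

set_option autoImplicit false

namespace Cfsg.Agent.H13.CoTwo

open Cfsg Cfsg.Agent.Golay Cfsg.Agent.H92.LeechOrbit

/-- The witness of one pair. -/
noncomputable def pairAt (L : List (List Atom)) (P : List (ℕ × ℕ × List Atom × ℕ)) (i j : ℕ) : Bool :=
  P.any fun p => Nat.beq p.1 i && Nat.beq p.2.1 j &&
    relOK [L.getD i [], L.getD j []] [L.getD j [], L.getD i []] &&
    match p.2.2.2 with
    | 0 => relOK [L.getD i [], p.2.2.1, L.getD i []] [p.2.2.1] &&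
        relOK [p.2.2.1, L.getD j []] [L.getD j [], p.2.2.1]
    | 1 => relOK [p.2.2.1, L.getD i []] [L.getD i [], p.2.2.1] &&
        relOK [L.getD j [], p.2.2.1, L.getD j []] [p.2.2.1]
    | 2 => relOK [p.2.2.1, L.getD i []] [L.getD j [], p.2.2.1] &&
        relOK [p.2.2.1, L.getD j []] [L.getD i [], p.2.2.1]
    | _ => relOK [L.getD j [], p.2.2.1, L.getD i []] [p.2.2.1] &&
        relOK [L.getD i [], p.2.2.1, L.getD j []] [p.2.2.1]

/-- The witness of one conjugation. -/
noncomputable def normAt (C : InvCert) (s a : ℕ) : Bool :=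
  C.norm.any fun q => Nat.beq q.1 s && Nat.beq q.2.1 a &&
    (q.2.2.all fun k => decide (k < C.A.length)) &&
    relOK [C.S.getD s [], C.A.getD a []]
      (q.2.2.map (fun k => C.A.getD k []) ++ [C.S.getD s []])

theorem pairsOK_of {L : List (List Atom)} {P : List (ℕ × ℕ × List Atom × ℕ)}
    (h : ∀ i < L.length, ∀ j < i, pairAt L P i j = true) : InvCert.pairsOK L P = true := by
  simp only [InvCert.pairsOK, List.all_eq_true, List.mem_range]
  exact h

theorem ok_of {C : InvCert} (ht : relOK [C.t, C.t] [] = true)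
    (hA : (C.A.all fun a => relOK [a, C.t, a] [C.t]) = true)
    (hS : (C.S.all fun s => relOK [C.t, s] [s, C.t] && relOK (List.replicate C.l s) []) = true)
    (hpA : InvCert.pairsOK C.A C.pA = true) (hpS : InvCert.pairsOK C.S C.pS = true)
    (hn : ∀ s < C.S.length, ∀ a < C.A.length, normAt C s a = true) : C.ok = true := by
  have hn' : ((List.range C.S.length).all fun s => (List.range C.A.length).all fun a =>
      C.norm.any fun q => Nat.beq q.1 s && Nat.beq q.2.1 a &&
        (q.2.2.all fun k => decide (k < C.A.length)) &&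
        relOK [C.S.getD s [], C.A.getD a []]
          (q.2.2.map (fun k => C.A.getD k []) ++ [C.S.getD s []])) = true := by
    simp only [List.all_eq_true, List.mem_range]
    exact hn
  unfold InvCert.ok
  rw [ht, hA, hS, hpA, hpS, hn']
  rfl

/-- Closure of an orbit under some generators. -/
noncomputable def closedOK (gens : List (List Atom)) (L : Level) : Bool :=
  gens.all fun w => L.pts.all fun c =>
    chk w c (appW w c) && L.pts.any fun d => Nat.beq (appW w c) d

/-- The other conditions on a level. -/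
noncomputable def levelRest (gens : List (List Atom)) (L : Level) : Bool :=
  (gens.all uOK) && inLeech (dec (L.pts.getD 0 0)) && (L.pts.all fun c => decide (c < 2 ^ 96)) &&
  decide (0 < L.pts.length) && Nat.beq (L.tr.length + 1) L.pts.length &&
  ((List.range L.pts.length).all fun i => (List.range i).all fun j =>
    !Nat.beq (L.pts.getD i 0) (L.pts.getD j 0)) &&
  ((List.range L.tr.length).all fun i =>
    decide ((L.tr.getD i (0, 0)).1 ≤ i) && decide ((L.tr.getD i (0, 0)).2 < gens.length) &&
      chk (gens.getD (L.tr.getD i (0, 0)).2 []) (L.pts.getD (L.tr.getD i (0, 0)).1 0)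
        (L.pts.getD (i + 1) 0)) &&
  L.stab.all fun p => p.2.1.all (fun k => decide (k < gens.length)) &&
    p.2.2.all (fun k => decide (k < gens.length)) &&
    chk p.1 (L.pts.getD 0 0) (L.pts.getD 0 0) &&
    relOK (p.2.1.map (fun k => gens.getD k []) ++ [p.1]) (p.2.2.map fun k => gens.getD k [])

theorem levelOK_of {gens : List (List Atom)} {L : Level} (k : ℕ) (h : levelRest gens L = true)
    (h1 : closedOK (gens.take k) L = true) (h2 : closedOK (gens.drop k) L = true) :
    levelOK gens L = true := by
  have hc : closedOK gens L = true := by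
    conv_lhs => rw [← List.take_append_drop k gens]
    unfold closedOK at h1 h2 ⊢
    rw [List.all_append, h1, h2]
    rfl
  unfold levelRest at h
  unfold closedOK at hc
  simp only [Bool.and_eq_true] at h
  obtain ⟨⟨⟨⟨⟨⟨⟨a1, a2⟩, a3⟩, a4⟩, a5⟩, a6⟩, a7⟩, a8⟩ := h
  unfold levelOK
  simp only [Bool.and_eq_true]
  exact ⟨⟨⟨⟨⟨⟨⟨⟨a1, a2⟩, a3⟩, a4⟩, a5⟩, a6⟩, a7⟩, hc⟩, a8⟩

theorem levelsOK_cons {gens : List (List Atom)} {L : Level} {r : List Level}
    (h : levelOK gens L = true) (h' : levelsOK (L.stab.map Prod.fst) r = true) :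
    levelsOK gens (L :: r) = true := by
  rw [levelsOK, h, h']
  rfl

end Cfsg.Agent.H13.CoTwo
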