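import Cfsg.Agent.H13.CoTwo.Odd.Defs

/-! Kernel checks of the odd certificates: inverted generators at three. -/

set_option autoImplicit false
set_option Elab.async false
set_option maxRecDepth 100000

namespace Cfsg.Agent.H13.CoTwo

open Cfsg Cfsg.Agent.Golay Cfsg.Agent.H92.LeechOrbit

theorem three_t : relOK [threeCert.t, threeCert.t] [] = true := by decide +kernel

theorem three_A : (threeCert.A.all fun a => relOK [a, threeCert.t, a] [threeCert.t]) = true := by decide +kernel


end Cfsg.Agent.H13.CoTwo
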