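import Cfsg.Agent.H13.CoTwo.Odd.Defs

/-! Kernel checks of the odd certificates: orbit at three. -/

set_option autoImplicit false
set_option Elab.async false
set_option maxRecDepth 100000

namespace Cfsg.Agent.H13.CoTwo

open Cfsg Cfsg.Agent.Golay Cfsg.Agent.H92.LeechOrbit

theorem three_closed_drop : closedOK ((threeCert.A ++ threeCert.S).drop 3) (threeLevels.getD 0 ⟨[], [], []⟩) = true := by decide +kernel

theorem three_level_one : levelsOK ((threeLevels.getD 0 ⟨[], [], []⟩).stab.map Prod.fst) [(threeLevels.getD 1 ⟨[], [], []⟩)] = true := by decide +kernel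


end Cfsg.Agent.H13.CoTwo
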